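import Mathlib

/-!
# Functions on a boolean cube with coefficients in the cube algebra

`dSub ρ n` is the algebra of functions on subsets of `Fin n` of the form
`S ↦ ∑_{T ⊆ S} c T * ρ ^ #T`.
-/

set_option autoImplicit false
universe u

namespace Groth.Agent.Lib.RedTorsion.Coeff

open Finset

variable {R : Type u} [CommRing R] (ρ : R) (n : ℕ)

/-- The basic functions of the cube algebra. -/
def delta (T : Finset (Fin n)) : Finset (Fin n) → R :=
  fun S => if T ⊆ S then ρ ^ T.card else 0

theorem delta_empty : delta ρ n ∅ = 1 := by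
  funext S; simp [delta]

theorem delta_mul (T T' : Finset (Fin n)) :
    delta ρ n T * delta ρ n T' = ρ ^ (T ∩ T').card • delta ρ n (T ∪ T') := by
  funext S
  simp only [delta, Pi.mul_apply, Pi.smul_apply, smul_eq_mul, union_subset_iff]
  by_cases h : T ⊆ S <;> by_cases h' : T' ⊆ S <;> simp [h, h', ← pow_add,
    add_comm (T ∩ T').card, card_union_add_card_inter]

/-- The span of the basic functions, which is a subalgebra. -/
def dSub : Subalgebra R (Finset (Fin n) → R) :=
  (Submodule.span R (Set.range (delta ρ n))).toSubalgebra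
    (Submodule.subset_span ⟨∅, delta_empty ρ n⟩) (by
      intro f g hf hg
      have : f * g ∈ Submodule.span R (Set.range (delta ρ n)) *
          Submodule.span R (Set.range (delta ρ n)) := Submodule.mul_mem_mul hf hg
      rw [Submodule.span_mul_span] at this
      refine Submodule.span_le.mpr ?_ this
      rintro _ ⟨_, ⟨T, rfl⟩, _, ⟨T', rfl⟩, rfl⟩
      dsimp only
      rw [delta_mul]
      exact Submodule.smul_mem _ _ (Submodule.subset_span ⟨_, rfl⟩))

theorem mem_dSub {f : Finset (Fin n) → R} :
    f ∈ dSub ρ n ↔ ∃ c : Finset (Fin n) → R, ∀ S, f S = ∑ T ∈ S.powerset, c T * ρ ^ T.card := by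
  have key : ∀ (c : Finset (Fin n) → R) (S : Finset (Fin n)),
      (∑ T, c T • delta ρ n T) S = ∑ T ∈ S.powerset, c T * ρ ^ T.card := by
    intro c S
    simp only [Finset.sum_apply, Pi.smul_apply, smul_eq_mul, delta, mul_ite, mul_zero,
      ← Finset.sum_filter]
    congr 1
    ext T; simp
  change f ∈ Submodule.span R (Set.range (delta ρ n)) ↔ _
  rw [Submodule.mem_span_range_iff_exists_fun]
  exact ⟨fun ⟨c, hc⟩ => ⟨c, fun S => by rw [← hc, key]⟩,
    fun ⟨c, hc⟩ => ⟨c, funext fun S => by rw [hc, key]⟩⟩

/-- A coordinate point: `S ↦ b + q * ρ` if `j ∈ S`, else `b`. -/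
theorem pair_mem (j : Fin n) (a b : R) (h : ρ ∣ a - b) :
    (fun S => if j ∈ S then a else b) ∈ dSub ρ n := by
  obtain ⟨q, hq⟩ := h
  have : (fun S : Finset (Fin n) => if j ∈ S then a else b) =
      b • delta ρ n ∅ + q • delta ρ n {j} := by
    funext S
    by_cases hj : j ∈ S
    · simp [delta, hj]; linear_combination hq
    · simp [delta, hj]
  rw [this]
  exact add_mem (Submodule.smul_mem _ _ (Submodule.subset_span ⟨_, rfl⟩))
    (Submodule.smul_mem _ _ (Submodule.subset_span ⟨_, rfl⟩))

/-- The values of an element of the cube algebra are congruent to each other modulo `ρ`. -/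
theorem dvd_sub {f : Finset (Fin n) → R} (hf : f ∈ dSub ρ n) (S : Finset (Fin n)) :
    ρ ∣ f S - f ∅ := by
  obtain ⟨c, hc⟩ := (mem_dSub ρ n).mp hf
  rw [hc, hc, Finset.powerset_empty, Finset.sum_singleton,
    ← Finset.sum_erase_add _ _ (Finset.empty_mem_powerset S), add_sub_cancel_right]
  refine Finset.dvd_sum fun T hT => ?_
  refine Dvd.dvd.mul_left (dvd_pow_self ρ ?_) _
  simpa using (Finset.mem_erase.mp hT).1

/-- An element of the cube algebra is a unit as soon as one of its values is a unit. -/
theorem isUnit_of_isUnit_apply [IsLocalRing R] (hρ : ρ ∈ IsLocalRing.maximalIdeal R)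
    (f : dSub ρ n) (S : Finset (Fin n)) (hf : IsUnit (f.1 S)) : IsUnit f := by
  have hint : (dSub ρ n).val.toRingHom.IsIntegral := by
    intro b
    have : IsIntegral R b := Algebra.IsIntegral.isIntegral b
    exact IsIntegral.tower_top (R := R) (A := dSub ρ n) this
  refine (hint.isLocalHom Subtype.val_injective).map_nonunit f (Pi.isUnit_iff.mpr fun T => ?_)
  obtain ⟨q, hq⟩ := dvd_sub ρ n f.2 S
  obtain ⟨q', hq'⟩ := dvd_sub ρ n f.2 T
  by_contra hT
  refine (IsLocalRing.mem_maximalIdeal _).mp ?_ hf
  have e : f.1 S = f.1 T + ρ * (q - q') := by linear_combination hq - hq'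
  rw [e]
  exact add_mem ((IsLocalRing.mem_maximalIdeal _).mpr hT) (Ideal.mul_mem_right _ _ hρ)

theorem isLocalRing [IsLocalRing R] (hρ : ρ ∈ IsLocalRing.maximalIdeal R) :
    IsLocalRing (dSub ρ n) := by
  have : Nontrivial (dSub ρ n) := inferInstance
  refine IsLocalRing.of_isUnit_or_isUnit_one_sub_self fun a => ?_
  exact (IsLocalRing.isUnit_or_isUnit_one_sub_self (a.1 ∅)).imp
    (isUnit_of_isUnit_apply ρ n hρ a ∅) (fun h => isUnit_of_isUnit_apply ρ n hρ (1 - a) ∅ h)

/-- A symmetric element of the cube algebra has coefficients depending only on the cardinality. -/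
theorem exists_binomial_expansion [IsDomain R] (hρ : ρ ≠ 0) (F : ℕ → R)
    (hF : (fun S : Finset (Fin n) => F S.card) ∈ dSub ρ n) :
    ∃ g : ℕ → R, ∀ m ≤ n, F m = ∑ i ∈ range (m + 1), (m.choose i : R) * g i * ρ ^ i := by
  classical
  obtain ⟨c, hc⟩ := (mem_dSub ρ n).mp hF
  let g : ℕ → R := fun i =>
    if h : i ≤ n then c (exists_subset_card_eq (s := (univ : Finset (Fin n)))
      (by simpa using h)).choose else 0
  suffices h : ∀ m, ∀ T : Finset (Fin n), T.card = m →
      c T = g m ∧ F m = ∑ i ∈ range (m + 1), (m.choose i : R) * g i * ρ ^ i by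
    refine ⟨g, fun m hm => ?_⟩
    obtain ⟨T, -, hT⟩ := exists_subset_card_eq (s := (univ : Finset (Fin n))) (n := m)
      (by simpa using hm)
    exact (h m T hT).2
  intro m
  induction m using Nat.strong_induction_on with
  | _ m ih =>
  have expand : ∀ T : Finset (Fin n), T.card = m →
      F m = (∑ i ∈ range m, (m.choose i : R) * g i * ρ ^ i) + c T * ρ ^ m := by
    intro T hT
    have h : F T.card = _ := hc T
    rw [Finset.sum_powerset, hT, Finset.sum_range_succ] at h
    rw [h, ← hT, Finset.powersetCard_self, Finset.sum_singleton, hT]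
    congr 1
    refine Finset.sum_congr rfl fun i hi => ?_
    rw [Finset.sum_congr rfl (g := fun _ => g i * ρ ^ i) fun U hU => by
      rw [(Finset.mem_powersetCard.mp hU).2,
        (ih i (Finset.mem_range.mp hi) U (Finset.mem_powersetCard.mp hU).2).1]]
    rw [Finset.sum_const, Finset.card_powersetCard, hT, nsmul_eq_mul]
    ring
  intro T hT
  have hm : m ≤ n := hT ▸ (Finset.card_le_univ T).trans_eq (Fintype.card_fin n)
  have hg : g m = c (exists_subset_card_eq (s := (univ : Finset (Fin n)))
      (by simpa using hm)).choose := dif_pos hm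
  have hcT : c T = g m := by
    rw [hg]
    have h1 := expand T hT
    rw [expand _ (exists_subset_card_eq (s := (univ : Finset (Fin n)))
      (by simpa using hm)).choose_spec.2] at h1
    exact (mul_right_cancel₀ (pow_ne_zero _ hρ) (add_left_cancel h1)).symm
  refine ⟨hcT, ?_⟩
  rw [Finset.sum_range_succ, Nat.choose_self, Nat.cast_one, one_mul, ← hcT]
  exact expand T hT

end Groth.Agent.Lib.RedTorsion.Coeff
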