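import Groth.Prelude.Def_SGA7IX
import Groth.Agent.Lib.RedTorsion.Coeff

/-!
# Binomial expansion of the multiples of a point near the origin
-/

set_option autoImplicit false
universe u

open CategoryTheory MonoidalCategory CartesianMonoidalCategory AlgebraicGeometry
open scoped MonObj

namespace Groth.Agent.Lib.RedTorsion.Basic

attribute [local instance] Hom.commMonoid

variable {R : Type u} [CommRing R]

/-- `Spec D` over `Spec R`. -/
noncomputable abbrev pt (R D : Type u) [CommRing R] [CommRing D] [Algebra R D] :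
    Over (Spec (CommRingCat.of R)) :=
  Over.mk (Spec.map (CommRingCat.ofHom (algebraMap R D)))

variable {D D' : Type u} [CommRing D] [Algebra R D] [CommRing D'] [Algebra R D']

/-- The map of points induced by an algebra map. -/
noncomputable def ptMap (f : D →ₐ[R] D') : pt R D' ⟶ pt R D :=
  Over.homMk (Spec.map (CommRingCat.ofHom f.toRingHom)) (by
    change _ ≫ Spec.map _ = Spec.map _
    rw [← Spec.map_comp]
    congr 1
    ext r
    exact f.commutes r)

variable {N : Over (Spec (CommRingCat.of R))}

section Coord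

variable {V : N.left.Opens} (hV : IsAffineOpen V)

/-- The ring homomorphism is the coordinate map of the point. -/
def IsCoord (P : pt R D ⟶ N) (φ : Γ(N.left, V) →+* D) : Prop :=
  Spec.map (CommRingCat.ofHom φ) ≫ hV.fromSpec = P.left

/-- The structure map of the ring of functions on `V`. -/
noncomputable def str : R →+* Γ(N.left, V) :=
  (Spec.preimage (hV.fromSpec ≫ N.hom)).hom

theorem exists_isCoord (P : pt R D ⟶ N)
    (h : ∀ z : (Spec (CommRingCat.of D) : Scheme.{u}), P.left.base z ∈ V) :
    ∃ φ, IsCoord hV P φ := by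
  have hr : Set.range P.left.base ⊆ Set.range hV.fromSpec.base := by
    rintro _ ⟨z, rfl⟩
    rw [hV.range_fromSpec]
    exact h z
  refine ⟨(Spec.preimage (R := Γ(N.left, V)) (S := CommRingCat.of D)
    (IsOpenImmersion.lift hV.fromSpec P.left hr)).hom, ?_⟩
  rw [IsCoord, CommRingCat.ofHom_hom, Spec.map_preimage, IsOpenImmersion.lift_fac]

variable {hV}

theorem IsCoord.unique {P : pt R D ⟶ N} {φ ψ : Γ(N.left, V) →+* D} (h : IsCoord hV P φ)
    (h' : IsCoord hV P ψ) : φ = ψ := by
  have e := (cancel_mono hV.fromSpec).mp (h.trans h'.symm)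
  exact congrArg CommRingCat.Hom.hom (Spec.map_injective e)

theorem IsCoord.ext {P Q : pt R D ⟶ N} {φ : Γ(N.left, V) →+* D} (h : IsCoord hV P φ)
    (h' : IsCoord hV Q φ) : P = Q :=
  Over.OverMorphism.ext (h.symm.trans h')

theorem IsCoord.comp {P : pt R D ⟶ N} {φ : Γ(N.left, V) →+* D} (h : IsCoord hV P φ)
    (f : D →ₐ[R] D') : IsCoord hV (ptMap f ≫ P) (f.toRingHom.comp φ) := by
  rw [IsCoord, CommRingCat.ofHom_comp, Spec.map_comp, Category.assoc, h]
  rfl

theorem IsCoord.comp_str {P : pt R D ⟶ N} {φ : Γ(N.left, V) →+* D} (h : IsCoord hV P φ) :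
    φ.comp (str hV) = algebraMap R D := by
  have e := Over.w P
  rw [← h, Category.assoc] at e
  have e2 : Spec.map (CommRingCat.ofHom (φ.comp (str hV))) =
      Spec.map (CommRingCat.ofHom (algebraMap R D)) := by
    rw [CommRingCat.ofHom_comp, Spec.map_comp]
    rw [show CommRingCat.ofHom (str hV) = Spec.preimage (hV.fromSpec ≫ N.hom) from rfl,
      Spec.map_preimage]
    exact e
  exact congrArg CommRingCat.Hom.hom (Spec.map_injective e2)

variable (hV)

/-- The point with given coordinates. -/
theorem exists_point (φ : Γ(N.left, V) →+* D) (hφ : φ.comp (str hV) = algebraMap R D) :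
    ∃ P : pt R D ⟶ N, IsCoord hV P φ := by
  refine ⟨Over.homMk (Spec.map (CommRingCat.ofHom φ) ≫ hV.fromSpec) ?_, rfl⟩
  change _ = Spec.map _
  rw [← hφ, CommRingCat.ofHom_comp, Spec.map_comp, Category.assoc]
  congr 1
  exact (Spec.map_preimage _).symm

end Coord

theorem mem_of_closedPoint [IsLocalRing D] (P : pt R D ⟶ N) (V : N.left.Opens)
    (h : P.left.base (IsLocalRing.closedPoint D) ∈ V) (z : (Spec (CommRingCat.of D) : Scheme.{u})) :
    P.left.base z ∈ V :=
  ((IsLocalRing.specializes_closedPoint z).map P.left.base.hom.continuous).mem_open V.2 h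

variable [GrpObj N] [IsCommMonObj N]

/-- Restriction of points along an algebra map, as a monoid homomorphism. -/
noncomputable def ptRes (f : D →ₐ[R] D') : (pt R D ⟶ N) →* (pt R D' ⟶ N) where
  toFun P := ptMap f ≫ P
  map_one' := MonObj.comp_one _
  map_mul' P Q := MonObj.comp_mul _ P Q

variable [IsDomain R] [IsLocalRing R]

open Finset in
/-- If a point `x` agrees with the origin modulo `ρ` in an affine chart, then the coordinates of its
powers have binomial expansions in powers of `ρ`, and all powers reduce to the origin. -/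
theorem exists_expansion (ρ : R) (hρ : ρ ∈ IsLocalRing.maximalIdeal R) (hρ0 : ρ ≠ 0)
    {V : N.left.Opens} (hV : IsAffineOpen V) (x : pt R R ⟶ N) (φx φe : Γ(N.left, V) →+* R)
    (hx : IsCoord hV x φx) (he : IsCoord hV (1 : pt R R ⟶ N) φe)
    (hdvd : ∀ a, ρ ∣ φx a - φe a) (n : ℕ) :
    (x ^ n).left.base (IsLocalRing.closedPoint R) =
      (1 : pt R R ⟶ N).left.base (IsLocalRing.closedPoint R) ∧
    ∃ φn, IsCoord hV (x ^ n) φn ∧ ∀ a, ∃ g : ℕ → R, g 0 = φe a ∧
      (1 ≤ n → φx a = φe a + g 1 * ρ) ∧
      φn a = ∑ i ∈ range (n + 1), (n.choose i : R) * g i * ρ ^ i := by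
  classical
  have hD := Coeff.isLocalRing ρ n hρ
  let ev (S : Finset (Fin n)) : Coeff.dSub ρ n →ₐ[R] R :=
    (Pi.evalAlgHom R (fun _ : Finset (Fin n) => R) S).comp (Coeff.dSub ρ n).val
  -- the points `x̃ j`
  let φ (j : Fin n) : Γ(N.left, V) →+* Coeff.dSub ρ n :=
    (RingHom.pi fun S => if j ∈ S then φx else φe).codRestrict (Coeff.dSub ρ n) fun a => by
      convert Coeff.pair_mem ρ n j (φx a) (φe a) (hdvd a) using 1
      funext S
      by_cases hj : j ∈ S <;> simp [RingHom.pi, hj]
  have hφ (j : Fin n) : (φ j).comp (str hV) = algebraMap R (Coeff.dSub ρ n) := by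
    refine RingHom.ext fun r => Subtype.ext (funext fun S => ?_)
    change (if j ∈ S then φx else φe) (str hV r) = r
    split_ifs
    · exact RingHom.congr_fun hx.comp_str r
    · exact RingHom.congr_fun he.comp_str r
  choose xt hxt using fun j => exists_point hV (φ j) (hφ j)
  let P : pt R (Coeff.dSub ρ n) ⟶ N := ∏ j, xt j
  have hev (S : Finset (Fin n)) : ptMap (ev S) ≫ P = x ^ S.card := by
    change ptRes (ev S) P = _
    rw [map_prod]
    have h1 (j : Fin n) : ptRes (ev S) (xt j) = if j ∈ S then x else 1 := by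
      have h2 : IsCoord hV (ptRes (ev S) (xt j)) (if j ∈ S then φx else φe) := (hxt j).comp (ev S)
      by_cases hj : j ∈ S
      · rw [if_pos hj] at h2 ⊢; exact h2.ext hx
      · rw [if_neg hj] at h2 ⊢; exact h2.ext he
    rw [Finset.prod_congr rfl fun j _ => h1 j, Finset.prod_ite_mem, Finset.univ_inter,
      Finset.prod_const]
  -- all evaluations send the closed point to the closed point
  have hclosed (S : Finset (Fin n)) :
      (ptMap (ev S)).left.base (IsLocalRing.closedPoint R) =
        IsLocalRing.closedPoint (Coeff.dSub ρ n) := by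
    have : IsLocalHom (ev S).toRingHom :=
      ⟨fun f hf => Coeff.isUnit_of_isUnit_apply ρ n hρ f S hf⟩
    exact IsLocalRing.comap_closedPoint (ev S).toRingHom
  have hpow (S : Finset (Fin n)) : (x ^ S.card).left.base (IsLocalRing.closedPoint R) =
      P.left.base (IsLocalRing.closedPoint (Coeff.dSub ρ n)) := by
    rw [← hev S, ← hclosed S]
    rfl
  have h0 : (1 : pt R R ⟶ N).left.base (IsLocalRing.closedPoint R) =
      P.left.base (IsLocalRing.closedPoint (Coeff.dSub ρ n)) := by
    simpa using hpow ∅
  have hn : ((univ : Finset (Fin n))).card = n := by simp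
  refine ⟨?_, ?_⟩
  · have := hpow univ
    rw [hn] at this
    exact this.trans h0.symm
  obtain ⟨Φ, hΦ⟩ := exists_isCoord hV P (mem_of_closedPoint P V (h0 ▸ by
    rw [← he]
    change hV.fromSpec.base _ ∈ _
    exact hV.range_fromSpec.le ⟨_, rfl⟩))
  have hΦS (S : Finset (Fin n)) : IsCoord hV (x ^ S.card) ((ev S).toRingHom.comp Φ) :=
    hev S ▸ hΦ.comp (ev S)
  refine ⟨_, hn ▸ hΦS univ, fun a => ?_⟩
  -- the symmetric function of the cardinality
  let F : ℕ → R := fun m =>
    if h : m ≤ n then (Φ a).1 (exists_subset_card_eq (s := (univ : Finset (Fin n)))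
      (by simpa using h)).choose else 0
  have hF : ∀ S : Finset (Fin n), F S.card = (Φ a).1 S := by
    intro S
    have hS : S.card ≤ n := S.card_le_univ.trans_eq (Fintype.card_fin n)
    rw [show F S.card = _ from dif_pos hS]
    set S' := (exists_subset_card_eq (s := (univ : Finset (Fin n))) (n := S.card)
      (by simpa using hS)).choose with hS'
    have hc : S'.card = S.card := (exists_subset_card_eq (s := (univ : Finset (Fin n)))
      (n := S.card) (by simpa using hS)).choose_spec.2
    have h1 := hΦS S'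
    rw [hc] at h1
    exact RingHom.congr_fun (h1.unique (hΦS S)) a
  obtain ⟨g, hg⟩ := Coeff.exists_binomial_expansion ρ n hρ0 F (by
    convert (Φ a).2 using 1
    exact funext hF)
  have hF0 : F 0 = φe a := by
    have h1 := hF ∅
    rw [Finset.card_empty] at h1
    rw [h1]
    have h2 := hΦS ∅
    rw [Finset.card_empty, pow_zero] at h2
    exact RingHom.congr_fun (h2.unique he) a
  have hg0 : g 0 = φe a := by
    have := hg 0 (Nat.zero_le n)
    simp at this
    rw [← this, hF0]
  refine ⟨g, hg0, fun hn1 => ?_, ?_⟩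
  · have h1 := hF {⟨0, hn1⟩}
    have h2 := hΦS {⟨0, hn1⟩}
    rw [Finset.card_singleton] at h1
    rw [Finset.card_singleton, pow_one] at h2
    have h3 := hg 1 hn1
    simp [Finset.sum_range_succ] at h3
    rw [h1, hg0] at h3
    rw [← h3]
    exact (RingHom.congr_fun (h2.unique hx) a).symm
  · have h1 := hF univ
    rw [hn] at h1
    rw [← hg n le_rfl, h1]
    rfl

end Groth.Agent.Lib.RedTorsion.Basic
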