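import Groth.Agent.Lib.RedTorsion.Basic

/-!
# Torsion sections reducing to the unit section
-/

set_option autoImplicit false
universe u

open CategoryTheory MonoidalCategory CartesianMonoidalCategory AlgebraicGeometry
open scoped MonObj

namespace Groth.Agent.Lib.RedTorsion.Main

open Basic Finset

attribute [local instance] Hom.commMonoid

variable {R : Type u} [CommRing R] [IsDomain R] [IsDiscreteValuationRing R]
variable {N : Over (Spec (CommRingCat.of R))} [GrpObj N] [IsCommMonObj N]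

/-- A point reduces to the origin. -/
def Red (x : pt R R ⟶ N) : Prop :=
  x.left.base (IsLocalRing.closedPoint R) = (1 : pt R R ⟶ N).left.base (IsLocalRing.closedPoint R)

variable {V : N.left.Opens} {hV : IsAffineOpen V}

theorem exists_chart (x : pt R R ⟶ N) (h : Red x) :
    ∃ (V : N.left.Opens) (hV : IsAffineOpen V) (φx φe : Γ(N.left, V) →+* R),
      IsCoord hV x φx ∧ IsCoord hV (1 : pt R R ⟶ N) φe ∧
        ∀ a, φx a - φe a ∈ IsLocalRing.maximalIdeal R := by
  obtain ⟨V, hV, hpV, -⟩ := exists_isAffineOpen_mem_and_subset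
    (X := N.left) (x := (1 : pt R R ⟶ N).left.base (IsLocalRing.closedPoint R))
    (U := ⊤) trivial
  obtain ⟨φx, hx⟩ := exists_isCoord hV x (mem_of_closedPoint x V (h ▸ hpV))
  obtain ⟨φe, he⟩ := exists_isCoord hV (1 : pt R R ⟶ N) (mem_of_closedPoint _ V hpV)
  refine ⟨V, hV, φx, φe, hx, he, fun a => ?_⟩
  have hc : PrimeSpectrum.comap φx (IsLocalRing.closedPoint R) =
      PrimeSpectrum.comap φe (IsLocalRing.closedPoint R) := by
    apply hV.fromSpec.isOpenEmbedding.injective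
    have h' := h
    rw [Red, ← hx, ← he] at h'
    exact h'
  have hc' : (IsLocalRing.maximalIdeal R).comap φx = (IsLocalRing.maximalIdeal R).comap φe :=
    congrArg PrimeSpectrum.asIdeal hc
  have hr (r : R) : φe (str hV r) = r := RingHom.congr_fun he.comp_str r
  have hr' (r : R) : φx (str hV r) = r := RingHom.congr_fun hx.comp_str r
  have h1 : a - str hV (φe a) ∈ (IsLocalRing.maximalIdeal R).comap φe := by
    simp [Ideal.mem_comap, hr]
  rw [← hc', Ideal.mem_comap, map_sub, hr'] at h1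
  exact h1

/-- Reduction to the origin passes to powers. -/
theorem red_pow (x : pt R R ⟶ N) (h : Red x) (n : ℕ) : Red (x ^ n) := by
  obtain ⟨ϖ, hϖ⟩ := IsDiscreteValuationRing.exists_irreducible R
  obtain ⟨V, hV, φx, φe, hx, he, hm⟩ := exists_chart x h
  refine (exists_expansion ϖ ?_ hϖ.ne_zero hV x φx φe hx he (fun a => ?_) n).1
  · rw [hϖ.maximalIdeal_eq]; exact Ideal.mem_span_singleton_self _
  · exact Ideal.mem_span_singleton.mp (hϖ.maximalIdeal_eq ▸ hm a)

/-- The general criterion. -/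
theorem eq_one_of_step (n : ℕ) (hn : 0 < n) (x : pt R R ⟶ N) (h : Red x) (hx1 : x ^ n = 1)
    (hstep : ∀ ρ ∈ IsLocalRing.maximalIdeal R, ρ ≠ 0 → ∀ g : ℕ → R,
      ∑ i ∈ range (n + 1), (n.choose i : R) * g i * ρ ^ i = g 0 →
        g 1 ∈ IsLocalRing.maximalIdeal R) : x = 1 := by
  obtain ⟨ϖ, hϖ⟩ := IsDiscreteValuationRing.exists_irreducible R
  obtain ⟨V, hV, φx, φe, hx, he, hm⟩ := exists_chart x h
  have key (k : ℕ) : ∀ a, ϖ ^ (k + 1) ∣ φx a - φe a := by
    induction k with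
    | zero => exact fun a => by simpa using Ideal.mem_span_singleton.mp (hϖ.maximalIdeal_eq ▸ hm a)
    | succ k ih =>
      intro a
      have hρm : ϖ ^ (k + 1) ∈ IsLocalRing.maximalIdeal R :=
        Ideal.pow_mem_of_mem _ (hϖ.maximalIdeal_eq ▸ Ideal.mem_span_singleton_self _) _ k.succ_pos
      obtain ⟨-, φn, hφn, hg⟩ :=
        exists_expansion (ϖ ^ (k + 1)) hρm (pow_ne_zero _ hϖ.ne_zero) hV x φx φe hx he ih n
      obtain ⟨g, hg0, hg1, hgn⟩ := hg a
      rw [hx1] at hφn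
      rw [hφn.unique he, ← hg0] at hgn
      obtain ⟨q, hq⟩ := Ideal.mem_span_singleton.mp
        (hϖ.maximalIdeal_eq ▸ hstep _ hρm (pow_ne_zero _ hϖ.ne_zero) g hgn.symm)
      refine ⟨q, ?_⟩
      rw [hg1 hn, hq]; ring
  have : φx = φe := by
    refine RingHom.ext fun a => sub_eq_zero.mp ?_
    by_contra hne
    obtain ⟨k, w, hk⟩ := IsDiscreteValuationRing.eq_unit_mul_pow_irreducible hne hϖ
    have h2 := key k a
    rw [hk, pow_succ, mul_comm (w : R), mul_dvd_mul_iff_left (pow_ne_zero _ hϖ.ne_zero)] at h2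
    exact hϖ.not_isUnit (isUnit_of_dvd_unit h2 w.isUnit)
  exact hx.ext (this ▸ he)

omit [IsDiscreteValuationRing R] in
theorem cancel_rho {n : ℕ} (hn : 0 < n) {ρ : R} (hρ : ρ ≠ 0) {g : ℕ → R}
    (h : ∑ i ∈ range (n + 1), (n.choose i : R) * g i * ρ ^ i = g 0) :
    ∑ i ∈ range n, (n.choose (i + 1) : R) * g (i + 1) * ρ ^ i = 0 := by
  rw [Finset.sum_range_succ'] at h
  simp only [Nat.choose_zero_right, Nat.cast_one, one_mul, pow_zero, mul_one,
    add_eq_right] at h
  refine mul_right_cancel₀ hρ (Eq.trans ?_ (h.trans (zero_mul ρ).symm))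
  rw [Finset.sum_mul]
  exact Finset.sum_congr rfl fun i _ => by ring

variable (p : ℕ) [hp : Fact p.Prime] [CharP (IsLocalRing.ResidueField R) p]

theorem eq_one_coprime (n : ℕ) (hn : 0 < n) (hnp : Nat.Coprime n p) (x : pt R R ⟶ N) (h : Red x)
    (hx1 : x ^ n = 1) : x = 1 := by
  refine eq_one_of_step n hn x h hx1 fun ρ hρ hρ0 g hg => ?_
  obtain ⟨n, rfl⟩ : ∃ m, n = m + 1 := ⟨n - 1, by omega⟩
  have hs := cancel_rho n.succ_pos hρ0 hg
  rw [Finset.sum_range_succ'] at hs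
  simp only [zero_add, Nat.choose_one_right, pow_zero, mul_one] at hs
  have hu : IsUnit ((n + 1 : ℕ) : R) := by
    by_contra hnu
    have : ((n + 1 : ℕ) : IsLocalRing.ResidueField R) = 0 := by
      rw [← map_natCast (IsLocalRing.residue R), IsLocalRing.residue_eq_zero_iff]
      exact hnu
    rw [CharP.cast_eq_zero_iff _ p] at this
    exact (hp.out.coprime_iff_not_dvd.mp hnp.symm) this
  have hmem : ((n + 1 : ℕ) : R) * g 1 ∈ IsLocalRing.maximalIdeal R := by
    rw [eq_neg_of_add_eq_zero_right hs, neg_mem_iff]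
    exact Ideal.sum_mem _ fun i _ => Ideal.mul_mem_left _ _ (Ideal.pow_mem_of_mem _ hρ _ i.succ_pos)
  obtain ⟨w, hw⟩ := hu
  rw [← hw] at hmem
  simpa [← mul_assoc] using Ideal.mul_mem_left _ ((w⁻¹ : Rˣ) : R) hmem

theorem eq_one_prime (hv : (p : R) ∉ IsLocalRing.maximalIdeal R ^ (p - 1)) (x : pt R R ⟶ N)
    (h : Red x) (hx1 : x ^ p = 1) : x = 1 := by
  refine eq_one_of_step p hp.out.pos x h hx1 fun ρ hρ hρ0 g hg => ?_
  obtain ⟨ϖ, hϖ⟩ := IsDiscreteValuationRing.exists_irreducible R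
  rw [hϖ.maximalIdeal_eq, Ideal.span_singleton_pow, Ideal.mem_span_singleton] at hv
  have hp0 : (p : R) ≠ 0 := fun h0 => hv (h0 ▸ dvd_zero _)
  obtain ⟨v, w, hw⟩ := IsDiscreteValuationRing.eq_unit_mul_pow_irreducible hp0 hϖ
  have hvp : v + 1 ≤ p - 1 := by
    by_contra hlt
    exact hv (hw ▸ Dvd.dvd.mul_left (pow_dvd_pow _ (by omega)) _)
  have hs := cancel_rho hp.out.pos hρ0 hg
  obtain ⟨m, hm⟩ : ∃ m, p = m + 2 := ⟨p - 2, by have := hp.out.two_le; omega⟩
  rw [hϖ.maximalIdeal_eq, Ideal.mem_span_singleton] at hρ ⊢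
  have hdvd : ϖ ^ (v + 1) ∣ (p : R) * g 1 := by
    rw [hm, Finset.sum_range_succ', zero_add, Nat.choose_one_right, pow_zero, mul_one] at hs
    rw [hm, eq_neg_of_add_eq_zero_right hs, dvd_neg]
    refine Finset.dvd_sum fun i hi => ?_
    rw [Finset.mem_range] at hi
    rcases eq_or_lt_of_le (Nat.le_of_lt_succ hi) with rfl | hlt
    · refine Dvd.dvd.mul_left (dvd_trans (pow_dvd_pow ϖ ?_) (pow_dvd_pow_of_dvd hρ _)) _
      omega
    · have hc : p ∣ p.choose (i + 1 + 1) := hp.out.dvd_choose_self (by omega) (by omega)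
      rw [← hm, pow_succ ϖ, mul_assoc]
      refine mul_dvd_mul ?_ ?_
      · exact (Dvd.intro_left _ hw.symm).trans (Nat.cast_dvd_cast hc)
      · exact Dvd.dvd.mul_left (hρ.trans (dvd_pow_self _ i.succ_ne_zero)) _
  rw [hw, mul_assoc, Units.dvd_mul_left, pow_succ,
    mul_dvd_mul_iff_left (pow_ne_zero _ hϖ.ne_zero)] at hdvd
  exact hdvd

theorem eq_one_small (hv : (p : R) ∉ IsLocalRing.maximalIdeal R ^ (p - 1)) (n : ℕ) (hn : 0 < n)
    (x : pt R R ⟶ N) (h : Red x) (hx1 : x ^ n = 1) : x = 1 := by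
  obtain ⟨a, m, hpm, rfl⟩ := Nat.exists_eq_pow_mul_and_not_dvd hn.ne' p hp.out.ne_one
  have hxa : x ^ p ^ a = 1 :=
    eq_one_coprime p m (Nat.pos_of_ne_zero fun h0 => hpm (h0 ▸ dvd_zero p))
      (Nat.Coprime.symm (hp.out.coprime_iff_not_dvd.mpr hpm)) _ (red_pow x h _)
      (by rw [← pow_mul, hx1])
  clear hn hx1
  induction a with
  | zero => simpa using hxa
  | succ a ih =>
    exact ih (eq_one_prime p hv _ (red_pow x h _) (by rw [← pow_mul, ← pow_succ, hxa]))

end Groth.Agent.Lib.RedTorsion.Main
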